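import Mathlib.CategoryTheory.Triangulated.TStructure.TruncLEGT
import Mathlib.CategoryTheory.Idempotents.Basic

/-!
# Idempotents split in a triangulated category with a bounded t-structure
-/

universe v u

open CategoryTheory Limits Pretriangulated Category

namespace Groth.Agent.TKaroubiLib

variable {C : Type u} [Category.{v} C]

/-- the idempotent `p` splits -/
def Spl {X : C} (p : X ⟶ X) : Prop :=
  ∃ (Y : C) (i : Y ⟶ X) (e : X ⟶ Y), i ≫ e = 𝟙 Y ∧ e ≫ i = p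

lemma spl_of_conj {X : C} (p q : X ⟶ X) (u : X ⟶ X) [IsIso u] (h : u ≫ q = p ≫ u) (hq : Spl q) :
    Spl p := by
  obtain ⟨Y, i, e, h1, h2⟩ := hq
  refine ⟨Y, i ≫ inv u, u ≫ e, by simp [h1], ?_⟩
  rw [assoc, reassoc_of% h2, reassoc_of% h, IsIso.hom_inv_id, comp_id]

variable [Preadditive C]

/-- idempotents differing by a square-zero element are conjugate -/
lemma spl_of_sq_zero {X : C} (p q : X ⟶ X) (hp : p ≫ p = p) (hq : q ≫ q = q)
    (hn : (p - q) ≫ (p - q) = 0) (hs : Spl q) : Spl p := by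
  let u : X ⟶ X := p ≫ q + (𝟙 X - p) ≫ (𝟙 X - q)
  let v : X ⟶ X := q ≫ p + (𝟙 X - q) ≫ (𝟙 X - p)
  have hn' : p ≫ p - p ≫ q - q ≫ p + q ≫ q = 0 := by
    rw [← hn]; simp only [Preadditive.sub_comp, Preadditive.comp_sub]; abel
  rw [hp, hq] at hn'
  have hsum : p + q = p ≫ q + q ≫ p := by
    rw [← sub_eq_zero, ← hn']; abel
  have hp' : ∀ {Z : C} (f : X ⟶ Z), p ≫ p ≫ f = p ≫ f := fun f => by rw [← assoc, hp]
  have hq' : ∀ {Z : C} (f : X ⟶ Z), q ≫ q ≫ f = q ≫ f := fun f => by rw [← assoc, hq]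
  have key : ∀ a b : X ⟶ X, a ≫ a = a → b ≫ b = b → a + b = a ≫ b + b ≫ a →
      (a ≫ b + (𝟙 X - a) ≫ (𝟙 X - b)) ≫ (b ≫ a + (𝟙 X - b) ≫ (𝟙 X - a)) = 𝟙 X := by
    intro a b ha hb hab
    have ha' : ∀ {Z : C} (f : X ⟶ Z), a ≫ a ≫ f = a ≫ f := fun f => by rw [← assoc, ha]
    have hb' : ∀ {Z : C} (f : X ⟶ Z), b ≫ b ≫ f = b ≫ f := fun f => by rw [← assoc, hb]
    have h1 : a ≫ b ≫ a = a := by
      have := congrArg (fun z => a ≫ z) hab
      simp only [Preadditive.comp_add, ha, ha'] at this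
      rw [add_comm a] at this
      exact (add_left_cancel this).symm
    simp only [Preadditive.add_comp, Preadditive.comp_add, Preadditive.sub_comp,
      Preadditive.comp_sub, id_comp, comp_id, assoc, ha, hb, ha', hb', h1]
    rw [← sub_eq_zero]
    have := sub_eq_zero.2 hab
    rw [← neg_eq_zero, ← this]
    abel
  haveI : IsIso u := ⟨v, key p q hp hq hsum, key q p hq hp (by rw [add_comm q, add_comm (q ≫ p)]; exact hsum)⟩
  refine spl_of_conj p q u ?_ hs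
  simp only [u, Preadditive.add_comp, Preadditive.comp_add, Preadditive.sub_comp,
    Preadditive.comp_sub, id_comp, comp_id, assoc, hp, hq, hp']
  abel

variable [HasZeroObject C] [HasShift C ℤ] [∀ n : ℤ, (shiftFunctor C n).Additive]
  [Pretriangulated C]

section plain

variable {A X B : C} {f : A ⟶ X} {g : X ⟶ B} {h : B ⟶ A⟦(1 : ℤ)⟧}

lemma lift₁ (hT : Triangle.mk f g h ∈ distTriang C) {W : C} (u : W ⟶ X) (hu : u ≫ g = 0) :
    ∃ v : W ⟶ A, u = v ≫ f :=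
  Triangle.coyoneda_exact₂ _ hT u hu

lemma desc₃ (hT : Triangle.mk f g h ∈ distTriang C) {W : C} (u : X ⟶ W) (hu : f ≫ u = 0) :
    ∃ v : B ⟶ W, u = g ≫ v :=
  Triangle.yoneda_exact₂ _ hT u hu

lemma lift₀ (hT : Triangle.mk f g h ∈ distTriang C) {W : C} (u : W ⟶ A) (hu : u ≫ f = 0) :
    ∃ (v : W ⟶ B⟦(-1 : ℤ)⟧) (w : B⟦(-1 : ℤ)⟧ ⟶ A), u = v ≫ w := by
  obtain ⟨v, hv⟩ := Triangle.coyoneda_exact₂ _ (inv_rot_of_distTriang _ hT) u hu
  exact ⟨v, _, hv⟩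

lemma desc₄ (hT : Triangle.mk f g h ∈ distTriang C) {W : C} (u : B ⟶ W) (hu : g ≫ u = 0) :
    ∃ v : A⟦(1 : ℤ)⟧ ⟶ W, u = h ≫ v :=
  Triangle.yoneda_exact₃ _ hT u hu

variable {A' X' B' : C} {f' : A' ⟶ X'} {g' : X' ⟶ B'} {h' : B' ⟶ A'⟦(1 : ℤ)⟧}

lemma completion₂ (hT : Triangle.mk f g h ∈ distTriang C)
    (hT' : Triangle.mk f' g' h' ∈ distTriang C) (a : A ⟶ A') (c : B ⟶ B')
    (comm : h ≫ a⟦(1 : ℤ)⟧' = c ≫ h') :
    ∃ b : X ⟶ X', f ≫ b = a ≫ f' ∧ g ≫ c = b ≫ g' :=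
  complete_distinguished_triangle_morphism₂ _ _ hT hT' a c comm

lemma completion₃ (hT : Triangle.mk f g h ∈ distTriang C)
    (hT' : Triangle.mk f' g' h' ∈ distTriang C) (a : A ⟶ A') (b : X ⟶ X')
    (comm : f ≫ b = a ≫ f') :
    ∃ c : B ⟶ B', g ≫ c = b ≫ g' ∧ h ≫ a⟦(1 : ℤ)⟧' = c ≫ h' :=
  complete_distinguished_triangle_morphism _ _ hT hT' a b comm

lemma isIso_middle (hT : Triangle.mk f g h ∈ distTriang C) (b : X ⟶ X)
    (h1 : f ≫ b = f) (h2 : b ≫ g = g) : IsIso b :=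
  isIso₂_of_isIso₁₃ (T := Triangle.mk f g h) (T' := Triangle.mk f g h)
    { hom₁ := 𝟙 _, hom₂ := b, hom₃ := 𝟙 _,
      comm₁ := h1.trans (id_comp f).symm
      comm₂ := (comp_id g).trans h2.symm
      comm₃ := by simp } hT hT (IsIso.id _) (IsIso.id _)

/-- if the outer idempotents of a triangle endomorphism split, so does the middle one -/
lemma spl_middle (hT : Triangle.mk f g h ∈ distTriang C) (φ₁ : A ⟶ A) (p : X ⟶ X) (φ₃ : B ⟶ B)
    (c1 : f ≫ p = φ₁ ≫ f) (c2 : g ≫ φ₃ = p ≫ g) (c3 : h ≫ φ₁⟦(1 : ℤ)⟧' = φ₃ ≫ h)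
    (h2 : p ≫ p = p) (hA : Spl φ₁) (hB : Spl φ₃) : Spl p := by
  obtain ⟨A', iA, eA, hA1, hA2⟩ := hA
  obtain ⟨B', iB, eB, hB1, hB2⟩ := hB
  let δ : B' ⟶ A'⟦(1 : ℤ)⟧ := iB ≫ h ≫ eA⟦(1 : ℤ)⟧'
  obtain ⟨Y, f', g', hY⟩ := distinguished_cocone_triangle₂ δ
  have hc1 : δ ≫ iA⟦(1 : ℤ)⟧' = iB ≫ h := by
    simp only [δ, assoc, ← Functor.map_comp, hA2]
    rw [c3, ← hB2, assoc, ← assoc iB eB, hB1, id_comp]
  have hc2 : h ≫ eA⟦(1 : ℤ)⟧' = eB ≫ δ := by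
    simp only [δ]
    rw [← assoc eB iB, hB2, ← reassoc_of% c3, ← Functor.map_comp]
    congr 2
    rw [← hA2, assoc, hA1, comp_id]
  obtain ⟨i, hi1, hi2⟩ := completion₂ hY hT iA iB hc1
  obtain ⟨r, hr1, hr2⟩ := completion₂ hT hY eA eB hc2
  have hf : f' ≫ i ≫ r = f' := by
    rw [reassoc_of% hi1, hr1, ← assoc, hA1, id_comp]
  have hg : (i ≫ r) ≫ g' = g' := by
    rw [assoc, ← hr2, ← reassoc_of% hi2, hB1, comp_id]
  haveI : IsIso (i ≫ r) := isIso_middle hY (i ≫ r) hf hg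
  let r' := r ≫ inv (i ≫ r)
  have hir : i ≫ r' = 𝟙 Y := by simp only [r']; rw [← assoc, IsIso.hom_inv_id]
  have hinvf : f' ≫ inv (i ≫ r) = f' := by rw [IsIso.comp_inv_eq, hf]
  have hinvg : inv (i ≫ r) ≫ g' = g' := by rw [IsIso.inv_comp_eq, hg]
  let q := r' ≫ i
  refine spl_of_sq_zero p q h2 (by simp only [q, assoc]; rw [reassoc_of% hir]) ?_ ⟨Y, i, r', hir, rfl⟩
  have hn1 : f ≫ (p - q) = 0 := by
    rw [Preadditive.comp_sub, c1, sub_eq_zero]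
    simp only [q, r', assoc]
    rw [reassoc_of% hr1, reassoc_of% hinvf, hi1, ← hA2, assoc]
  have hn2 : (p - q) ≫ g = 0 := by
    rw [Preadditive.sub_comp, ← c2, sub_eq_zero]
    simp only [q, r', assoc]
    rw [← hi2, reassoc_of% hinvg, ← reassoc_of% hr2, hB2]
  obtain ⟨z, hz⟩ := desc₃ hT _ hn1
  nth_rewrite 2 [hz]
  rw [← assoc, hn2, zero_comp]

end plain

open Triangulated

variable (t : TStructure C)

lemma spl_pure {X : C} (p : X ⟶ X) (hp : p ≫ p = p) (a : ℤ) [t.IsGE X a] [t.IsLE X a] : Spl p := by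
  obtain ⟨W, k, δ, hW⟩ := distinguished_cocone_triangle₁ (𝟙 X - p)
  obtain ⟨K, V, hK, hV, ι, π, γ, hKV⟩ := t.exists_triangle W a (a + 1) rfl
  haveI : t.IsLE K a := ⟨hK⟩
  haveI : t.IsGE V (a + 1) := ⟨hV⟩
  haveI : t.IsGE (V⟦(-1 : ℤ)⟧) (a + 2) := t.isGE_shift V (a + 1) (-1) (a + 2)
  haveI : t.IsGE (X⟦(-1 : ℤ)⟧) (a + 1) := t.isGE_shift X a (-1) (a + 1)
  have hkq : k ≫ (𝟙 X - p) = 0 := comp_distTriang_mor_zero₁₂ _ hW
  obtain ⟨e₀, he₀⟩ := lift₁ hW p (by rw [Preadditive.comp_sub, hp, comp_id, sub_self])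
  obtain ⟨e, he⟩ := lift₁ hKV e₀ (t.zero _ a (a + 1) (by omega))
  let i := ι ≫ k
  have hei : e ≫ i = p := by rw [he₀, he, assoc]
  have hip : i ≫ p = i := by
    have : k ≫ p = k := by
      rw [Preadditive.comp_sub, comp_id, sub_eq_zero] at hkq
      exact hkq.symm
    simp only [i, assoc, this]
  refine ⟨K, i, e, ?_, hei⟩
  rw [← sub_eq_zero]
  set d := i ≫ e - 𝟙 K
  have hdi : (d ≫ ι) ≫ k = 0 := by
    simp only [d, Preadditive.sub_comp, assoc, id_comp]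
    rw [show e ≫ ι ≫ k = p from hei, hip]
    exact sub_self _
  obtain ⟨v, w, hvw⟩ := lift₀ hW (d ≫ ι) hdi
  have hdι : d ≫ ι = 0 := by rw [hvw, t.zero v a (a + 1) (by omega), zero_comp]
  obtain ⟨v', w', hvw'⟩ := lift₀ hKV d hdι
  rw [hvw', t.zero v' a (a + 2) (by omega), zero_comp]

lemma spl_range (n : ℕ) : ∀ (a : ℤ) (X : C), t.IsGE X a → t.IsLE X (a + n) →
    ∀ p : X ⟶ X, p ≫ p = p → Spl p := by
  induction n with
  | zero =>
    intro a X h1 h2 p hp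
    haveI : t.IsLE X a := by simpa using h2
    exact spl_pure t p hp a
  | succ n ih =>
    intro a X h1 h2 p hp
    obtain ⟨A, B, hA, hB, f, g, h, hT⟩ := t.exists_triangle X a (a + 1) rfl
    haveI : t.IsLE A a := ⟨hA⟩
    haveI : t.IsGE B (a + 1) := ⟨hB⟩
    haveI : t.IsGE (B⟦(-1 : ℤ)⟧) (a + 2) := t.isGE_shift B (a + 1) (-1) (a + 2)
    haveI : t.IsLE (A⟦(1 : ℤ)⟧) (a - 1) := t.isLE_shift A a 1 (a - 1)
    haveI : t.IsGE A a :=
      t.isGE₂ (Triangle.mk f g h).invRotate (inv_rot_of_distTriang _ hT) a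
        (t.isGE_of_ge (B⟦(-1 : ℤ)⟧) a (a + 2) (by omega)) h1
    have hBle : t.IsLE B (a + 1 + n) := by
      refine t.isLE₂ (Triangle.mk f g h).rotate (rot_of_distTriang _ hT) (a + 1 + n) ?_
        (t.isLE_of_le (A⟦(1 : ℤ)⟧) (a - 1) (a + 1 + n) (by omega))
      rw [show a + 1 + (n : ℤ) = a + ((n + 1 : ℕ) : ℤ) by omega]
      exact h2
    obtain ⟨φ₁, c1⟩ := lift₁ hT (f ≫ p) (t.zero _ a (a + 1) (by omega))
    obtain ⟨φ₃, c2, c3⟩ := completion₃ hT hT φ₁ p c1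
    have h11 : φ₁ ≫ φ₁ = φ₁ := by
      rw [← sub_eq_zero]
      obtain ⟨v, w, hvw⟩ := lift₀ hT (φ₁ ≫ φ₁ - φ₁) (by
        rw [Preadditive.sub_comp, assoc, ← c1, reassoc_of% c1.symm, hp, c1, sub_self])
      rw [hvw, t.zero v a (a + 2) (by omega), zero_comp]
    have h33 : φ₃ ≫ φ₃ = φ₃ := by
      rw [← sub_eq_zero]
      obtain ⟨z, hz⟩ := desc₄ hT (φ₃ ≫ φ₃ - φ₃) (by
        rw [Preadditive.comp_sub, reassoc_of% c2, c2, ← assoc, hp, sub_self])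
      rw [hz, t.zero z (a - 1) (a + 1) (by omega), comp_zero]
    exact spl_middle hT φ₁ p φ₃ c1 c2 c3 hp (spl_pure t φ₁ h11 a)
      (ih (a + 1) B inferInstance hBle φ₃ h33)

theorem isIdempotentComplete (hb : ∀ X : C, t.bounded X) : IsIdempotentComplete C := by
  refine ⟨fun X p hp => ?_⟩
  obtain ⟨⟨a, h1⟩, b, h2⟩ := hb X
  haveI := h1
  haveI := h2
  refine spl_range t (b - a).toNat a X h1 ?_ p hp
  exact t.isLE_of_le X b (a + (b - a).toNat) (by omega)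

end Groth.Agent.TKaroubiLib
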